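import Mathlib

/-!
Linear groups of bounded `p`-part: abelian subgroups, commutants, scalar elements.
-/

set_option autoImplicit false
set_option linter.style.haveILetI false
set_option linter.unusedSectionVars false

namespace CfsgLib.BrauerFeit

open Module
open scoped Nat

variable {G : Type*} [Group G] [Finite G]

/-- A `p`-subgroup has order at most the `p`-part of a multiple of the group order. -/
theorem pgroup_card_le {p m N : ℕ} [hp : Fact p.Prime] (hN : N ≠ 0) (hm : N.factorization p ≤ m)
    (hG : Nat.card G ∣ N) (K : Subgroup G) (hK : IsPGroup p K) : Nat.card K ∣ p ^ m := by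
  obtain ⟨j, hj⟩ := IsPGroup.iff_card.mp hK
  rw [hj]
  refine pow_dvd_pow p (le_trans ?_ hm)
  exact (hp.out.pow_dvd_iff_le_factorization hN).mp
    (hj ▸ (Subgroup.card_subgroup_dvd_card K).trans hG)

/-- The centralizer of a subgroup has index at most a factorial in its normalizer. -/
theorem index_centralizer_le (K : Subgroup G) [K.Normal] :
    (Subgroup.centralizer (K : Set G)).index ≤ (Nat.card K)! := by
  have h : Subgroup.centralizer (K : Set G) = (MulAut.conjNormal : G →* MulAut K).ker := by
    ext g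
    rw [MonoidHom.mem_ker, Subgroup.mem_centralizer_iff]
    constructor
    · intro hg
      ext k
      rw [MulAut.conjNormal_apply, MulAut.one_apply, mul_inv_eq_iff_eq_mul]
      exact (hg k k.2).symm
    · intro hg k hk
      have := congrArg (fun f : MulAut K => ((f ⟨k, hk⟩ : K) : G)) hg
      simp only [MulAut.conjNormal_apply, MulAut.one_apply, mul_inv_eq_iff_eq_mul] at this
      exact this.symm
  rw [h, Subgroup.index_ker]
  calc Nat.card (MulAut.conjNormal : G →* MulAut K).range
      ≤ Nat.card (MulAut K) := Nat.card_le_card_of_injective _ Subtype.val_injective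
    _ ≤ Nat.card (Equiv.Perm K) :=
        Nat.card_le_card_of_injective (fun f => f.toEquiv) MulEquiv.toEquiv_injective
    _ = (Nat.card K)! := Nat.card_perm

/-- A subgroup of bounded index which is abelian contains a normal one of bounded index. -/
theorem exists_normal_of_abelian {c : ℕ} (A : Subgroup G) (hA : IsMulCommutative A)
    (hc : A.index ≤ c) : ∃ N : Subgroup G, N.Normal ∧ IsMulCommutative N ∧ N.index ≤ c ! := by
  refine ⟨A.normalCore, inferInstance, ⟨⟨fun a b => Subtype.ext ?_⟩⟩, ?_⟩
  · have h := congrArg Subtype.val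
      (hA.is_comm.comm (⟨a, A.normalCore_le a.2⟩ : A) ⟨b, A.normalCore_le b.2⟩)
    exact h
  · refine le_trans ?_ (Nat.factorial_le hc)
    rw [Subgroup.normalCore_eq_ker, Subgroup.index_ker, Subgroup.index_eq_card]
    exact le_trans (Nat.card_le_card_of_injective _ Subtype.val_injective) Nat.card_perm.le

section Linear

variable {F V : Type*} [Field F] [IsAlgClosed F] [AddCommGroup V] [Module F V]
  [FiniteDimensional F V] (ρ : G →* Module.End F V)

theorem ne_zero_apply (g : G) {v : V} (hv : v ≠ 0) : ρ g v ≠ 0 := fun h => hv (by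
  have : ρ g⁻¹ (ρ g v) = v := by
    rw [← Module.End.mul_apply, ← map_mul, inv_mul_cancel, map_one, Module.End.one_apply]
  rw [h, map_zero] at this
  exact this.symm)

/-- Joint eigenspaces of an abelian subgroup of order prime to the characteristic. -/
theorem exists_weights (B : Subgroup G) (hBc : ∀ a ∈ B, ∀ b ∈ B, Commute a b)
    (hcop : (Nat.card B : F) ≠ 0) :
    ∃ W : (B → F) → Submodule F V, (⨆ χ, W χ) = ⊤ ∧
      (∀ χ v, v ∈ W χ ↔ ∀ b : B, ρ b v = χ b • v) ∧
      Finite {χ // W χ ≠ ⊥} ∧ Nat.card {χ // W χ ≠ ⊥} ≤ finrank F V := by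
  let f : B → Module.End F V := fun b => ρ b
  have hss : ∀ b : B, (f b).IsSemisimple := by
    intro b
    have hb : (orderOf (b : G) : F) ≠ 0 := by
      obtain ⟨k, hk⟩ := (Subgroup.orderOf_coe b) ▸ orderOf_dvd_natCard b
      intro h
      exact hcop (by rw [hk, Nat.cast_mul, h, zero_mul])
    refine Module.End.isSemisimple_of_squarefree_aeval_eq_zero
      (p := Polynomial.X ^ orderOf (b : G) - Polynomial.C (1 : F)) ?_ ?_
    · exact (Polynomial.separable_X_pow_sub_C (1 : F) hb one_ne_zero).squarefree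
    · rw [map_sub, map_pow, Polynomial.aeval_X, Polynomial.aeval_C, map_one, ← map_pow,
        pow_orderOf_eq_one, map_one, sub_self]
  let W : (B → F) → Submodule F V := fun χ => ⨅ b, (f b).maxGenEigenspace (χ b)
  have htop : ⨆ χ, W χ = ⊤ :=
    Module.End.iSup_iInf_maxGenEigenspace_eq_top_of_iSup_maxGenEigenspace_eq_top_of_commute f
      (fun a b _ => (hBc a a.2 b b.2).map ρ) (fun a => Module.End.iSup_maxGenEigenspace_eq_top _)
  have heig : ∀ χ v, v ∈ W χ ↔ ∀ b : B, ρ b v = χ b • v := by
    intro χ v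
    simp only [W, Submodule.mem_iInf]
    refine forall_congr' fun b => ?_
    rw [(hss b).isFinitelySemisimple.maxGenEigenspace_eq_eigenspace, Module.End.mem_eigenspace_iff]
  have hind : iSupIndep W :=
    Module.End.independent_iInf_maxGenEigenspace_of_forall_mapsTo f
      fun a b ψ => Module.End.mapsTo_maxGenEigenspace_of_comm ((hBc b b.2 a a.2).map ρ) ψ
  haveI : Fintype {χ // W χ ≠ ⊥} := hind.fintypeNeBotOfFiniteDimensional
  refine ⟨W, htop, heig, inferInstance, ?_⟩
  rw [Nat.card_eq_fintype_card]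
  exact hind.subtype_ne_bot_le_finrank

/-- Two endomorphisms agreeing on a family of spanning subspaces agree. -/
theorem eq_of_weights {ι : Type*} {W : ι → Submodule F V} (htop : (⨆ i, W i) = ⊤)
    {f g : Module.End F V} (h : ∀ i, W i ≠ ⊥ → ∀ v ∈ W i, f v = g v) : f = g := by
  refine LinearMap.ext fun v => ?_
  have hv : v ∈ LinearMap.eqLocus f g := by
    refine (iSup_le fun i => ?_ : (⨆ i, W i) ≤ LinearMap.eqLocus f g) (htop ▸ Submodule.mem_top)
    intro w hw
    by_cases hb : W i = ⊥
    · rw [hb, Submodule.mem_bot] at hw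
      rw [hw]
      exact Submodule.zero_mem _
    · exact h i hb w hw
  exact hv

/-- The centralizer of an abelian subgroup of order prime to the characteristic has index at most
a factorial in any group normalizing it. -/
theorem relIndex_centralizer_le (hρ : Function.Injective ρ) (B N : Subgroup G)
    (hBc : ∀ a ∈ B, ∀ b ∈ B, Commute a b) (hcop : (Nat.card B : F) ≠ 0)
    (hN : ∀ g ∈ N, ∀ b ∈ B, g * b * g⁻¹ ∈ B) :
    (Subgroup.centralizer (B : Set G)).relIndex N ≤ (finrank F V)! := by
  classical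
  obtain ⟨W, htop, heig, hfin, hcard⟩ := exists_weights ρ B hBc hcop
  have hn : ∀ g : N, ∀ b : B, (g : G)⁻¹ * b * g ∈ B := fun g b => by
    simpa using hN (g : G)⁻¹ (inv_mem g.2) b b.2
  let act : N → (B → F) → (B → F) := fun g χ b => χ ⟨(g : G)⁻¹ * b * g, hn g b⟩
  have hmap : ∀ g χ v, v ∈ W χ → ρ (g : N) v ∈ W (act g χ) := by
    intro g χ v hv
    rw [heig] at hv ⊢
    intro b
    show (ρ b * ρ g) v = χ ⟨(g : G)⁻¹ * b * g, hn g b⟩ • ρ g v
    rw [← map_mul, show (b : G) * g = g * ((g : G)⁻¹ * b * g) by group, map_mul]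
    show ρ g (ρ ((g : G)⁻¹ * b * g) v) = _
    rw [hv ⟨(g : G)⁻¹ * b * g, hn g b⟩, map_smul]
  letI : MulAction N {χ // W χ ≠ ⊥} :=
    { smul := fun g χ => ⟨act g χ.1, fun hb => χ.2 (by
        rw [Submodule.eq_bot_iff]
        intro v hv
        by_contra hv0
        exact ne_zero_apply ρ g hv0 ((Submodule.eq_bot_iff _).mp hb _ (hmap g χ.1 v hv)))⟩
      one_smul := fun χ => Subtype.ext (funext fun b => congrArg χ.1 (Subtype.ext (by simp)))
      mul_smul := fun g h χ => Subtype.ext (funext fun b => congrArg χ.1 (Subtype.ext (by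
        show ((g * h : N) : G)⁻¹ * b * (g * h : N) = (h : G)⁻¹ * ((g : G)⁻¹ * b * g) * h
        rw [Subgroup.coe_mul]
        group))) }
  let π := MulAction.toPermHom N {χ // W χ ≠ ⊥}
  have hker : π.ker ≤ (Subgroup.centralizer (B : Set G)).subgroupOf N := by
    intro g hg
    rw [Subgroup.mem_subgroupOf, Subgroup.mem_centralizer_iff]
    intro b hb
    have hfix : ∀ χ : {χ // W χ ≠ ⊥}, act g χ.1 = χ.1 := fun χ => by
      have := congrArg (fun e : Equiv.Perm _ => e χ) (MonoidHom.mem_ker.mp hg)
      exact congrArg Subtype.val this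
    refine hρ (eq_of_weights htop fun χ hχ v hv => ?_)
    have h1 := hmap g χ v hv
    rw [hfix ⟨χ, hχ⟩] at h1
    rw [map_mul, map_mul, Module.End.mul_apply, Module.End.mul_apply,
      (heig χ v).mp hv ⟨b, hb⟩, (heig χ _).mp h1 ⟨b, hb⟩, map_smul]
  calc (Subgroup.centralizer (B : Set G)).relIndex N
      ≤ π.ker.index := Nat.le_of_dvd (Nat.pos_of_ne_zero Subgroup.index_ne_zero_of_finite)
        (Subgroup.index_dvd_of_le hker)
    _ = Nat.card π.range := Subgroup.index_ker _
    _ ≤ Nat.card (Equiv.Perm {χ // W χ ≠ ⊥}) :=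
        Nat.card_le_card_of_injective _ Subtype.val_injective
    _ ≤ (finrank F V)! := Nat.card_perm.trans_le (Nat.factorial_le hcard)

/-- An element acting as a scalar is central. -/
theorem mem_center_of_scalar (hρ : Function.Injective ρ) {g : G} {c : F} (h : ρ g = c • 1) :
    g ∈ Subgroup.center G := Subgroup.mem_center_iff.mpr fun x => hρ (by
  rw [map_mul, map_mul, h, mul_smul_comm, smul_mul_assoc, mul_one, one_mul])

/-- An abelian group of exponent `E` modulo the scalars is small modulo the scalars. -/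
theorem relIndex_center_le {p m : ℕ} [hp : Fact p.Prime] [CharP F p]
    (hm : (Nat.card G).factorization p ≤ m) (hρ : Function.Injective ρ)
    (hscal : ∀ z ∈ Subgroup.center G, ∃ c : F, ρ z = c • 1)
    (A : Subgroup G) (hAc : ∀ a ∈ A, ∀ b ∈ A, Commute a b) {E : ℕ} (hE : 0 < E)
    (hexp : ∀ a ∈ A, a ^ E ∈ Subgroup.center G) :
    (Subgroup.center G).relIndex A ≤ p ^ m * E ^ finrank F V := by
  classical
  set M := p ^ m
  let pw : A →* G := MonoidHom.mk' (fun a => (a : G) ^ M) fun a b =>
    (hAc a a.2 b b.2).mul_pow M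
  have hpw : ∀ a, pw a = (a : G) ^ M := fun a => rfl
  have hBA : pw.range ≤ A := by
    rintro _ ⟨a, rfl⟩
    exact pow_mem a.2 M
  have hcop : (Nat.card pw.range : F) ≠ 0 := by
    rw [Ne, CharP.cast_eq_zero_iff F p]
    intro hd
    obtain ⟨b, hb⟩ := exists_prime_orderOf_dvd_card' p hd
    obtain ⟨a, ha⟩ := b.2
    have hb1 : (a : G) ^ M ≠ 1 := by
      rw [← hpw, ha]
      intro h
      rw [(Subtype.ext h : b = 1), orderOf_one] at hb
      exact hp.out.one_lt.ne hb
    have hbp : (a : G) ^ (p ^ (m + 1)) = 1 := by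
      rw [pow_succ, pow_mul, ← hpw, ha, ← hb, ← Subgroup.coe_pow, pow_orderOf_eq_one]
      rfl
    obtain ⟨i, hi, hia⟩ := (Nat.dvd_prime_pow hp.out).mp (orderOf_dvd_of_pow_eq_one hbp)
    rcases Nat.lt_or_ge i (m + 1) with h | h
    · exact hb1 (orderOf_dvd_iff_pow_eq_one.mp (hia ▸ pow_dvd_pow p (by omega)))
    · have := (hp.out.pow_dvd_iff_le_factorization Nat.card_pos.ne').mp
        (hia ▸ orderOf_dvd_natCard (a : G))
      omega
  obtain ⟨W, htop, heig, hfin, hcard⟩ :=
    exists_weights ρ pw.range (fun a ha b hb => hAc a (hBA ha) b (hBA hb)) hcop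
  set Z := Subgroup.center G
  let q := QuotientGroup.mk' Z
  let qp : A →* G ⧸ Z := q.comp pw
  -- the kernel
  have hker : Nat.card (qp.ker.map (q.comp A.subtype)) ≤ M := by
    refine Nat.le_of_dvd (pow_pos hp.out.pos m) (pgroup_card_le Nat.card_pos.ne' hm
      (by rw [← Subgroup.index_eq_card]; exact Subgroup.index_dvd_card Z) _ ?_)
    rintro ⟨_, a, ha, rfl⟩
    refine ⟨m, Subtype.ext ?_⟩
    show q (a : G) ^ M = 1
    rw [← map_pow]
    exact ha
  -- the range
  have hrange : Nat.card qp.range ≤ E ^ finrank F V := by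
    by_cases hne : Nonempty {χ // W χ ≠ ⊥}
    · obtain ⟨χ₀⟩ := hne
      have hval : ∀ (χ : {χ // W χ ≠ ⊥}) (b : pw.range), χ.1 b ≠ 0 := by
        intro χ b h0
        obtain ⟨v, hv, hv0⟩ := Submodule.exists_mem_ne_zero_of_ne_bot χ.2
        have h1 := (heig χ.1 v).mp hv b
        rw [h0, zero_smul] at h1
        exact ne_zero_apply ρ _ hv0 h1
      have hrep : ∀ x : qp.range, ∃ b : pw.range, q b = x := by
        rintro ⟨_, a, rfl⟩
        exact ⟨⟨pw a, a, rfl⟩, rfl⟩
      choose rep hrep using hrep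
      have hroot : ∀ (b : pw.range) (χ : {χ // W χ ≠ ⊥}), (χ.1 b / χ₀.1 b) ^ E = 1 := by
        intro b χ
        obtain ⟨c, hc⟩ := hscal _ (hexp b (hBA b.2))
        have key : ∀ χ : {χ // W χ ≠ ⊥}, χ.1 b ^ E = c := by
          intro χ
          obtain ⟨v, hv, hv0⟩ := Submodule.exists_mem_ne_zero_of_ne_bot χ.2
          have h1 : ∀ k : ℕ, (ρ b ^ k) v = χ.1 b ^ k • v := by
            intro k
            induction k with
            | zero => simp
            | succ k ih =>
              rw [pow_succ', Module.End.mul_apply, ih, map_smul, (heig χ.1 v).mp hv b,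
                smul_smul, ← pow_succ]
          have h2 := h1 E
          rw [← map_pow, hc, LinearMap.smul_apply, Module.End.one_apply] at h2
          exact (smul_left_injective F hv0 h2).symm
        rw [div_pow, key, key, div_self (key χ₀ ▸ pow_ne_zero _ (hval χ₀ b))]
      haveI : NeZero E := ⟨hE.ne'⟩
      let r : qp.range → ({χ // W χ ≠ ⊥} → rootsOfUnity E F) := fun x χ =>
        rootsOfUnity.mkOfPowEq (χ.1 (rep x) / χ₀.1 (rep x)) (hroot _ χ)
      have hinj : Function.Injective r := by
        intro x y hxy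
        set b := rep x
        set b' := rep y
        have hr : ∀ χ : {χ // W χ ≠ ⊥}, χ.1 b' = χ₀.1 b' / χ₀.1 b * χ.1 b := by
          intro χ
          have h := congrArg (fun u : rootsOfUnity E F => ((u : Fˣ) : F)) (congrFun hxy χ)
          simp only [r, rootsOfUnity.val_mkOfPowEq_coe] at h
          rw [div_eq_div_iff (hval χ₀ b) (hval χ₀ b')] at h
          rw [div_mul_eq_mul_div, eq_div_iff (hval χ₀ b), mul_comm (χ₀.1 b')]
          exact h.symm
        have heq : ρ (b' : G) = (χ₀.1 b' / χ₀.1 b) • ρ (b : G) :=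
          eq_of_weights htop fun χ hχ v hv => by
            rw [LinearMap.smul_apply, (heig χ v).mp hv, (heig χ v).mp hv, smul_smul, ← hr ⟨χ, hχ⟩]
        have hmem : (b : G)⁻¹ * b' ∈ Z :=
          mem_center_of_scalar ρ hρ (c := χ₀.1 b' / χ₀.1 b) (by
            rw [map_mul, heq, mul_smul_comm, ← map_mul, inv_mul_cancel, map_one])
        refine Subtype.ext ?_
        rw [← hrep x, ← hrep y]
        exact QuotientGroup.eq.mpr hmem
      calc Nat.card qp.range ≤ Nat.card ({χ // W χ ≠ ⊥} → rootsOfUnity E F) :=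
            Nat.card_le_card_of_injective r hinj
        _ = Nat.card (rootsOfUnity E F) ^ Nat.card {χ // W χ ≠ ⊥} := Nat.card_fun
        _ ≤ E ^ Nat.card {χ // W χ ≠ ⊥} := by
            gcongr
            exact card_rootsOfUnity F E
        _ ≤ E ^ finrank F V := Nat.pow_le_pow_right hE hcard
    · have hsub : ∀ g : G, g = 1 := fun g => hρ (eq_of_weights htop fun χ hχ => absurd ⟨⟨χ, hχ⟩⟩ hne)
      have : Subsingleton G := ⟨fun a b => (hsub a).trans (hsub b).symm⟩
      haveI : Subsingleton (G ⧸ Z) := Quot.Subsingleton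
      calc Nat.card qp.range ≤ 1 := Finite.card_le_one_iff_subsingleton.mpr inferInstance
        _ ≤ _ := Nat.one_le_pow _ _ hE
  -- assemble
  have hcardA : Z.relIndex A = Nat.card (A.map q) := by
    rw [← Subgroup.relIndex_ker (K := A) q, QuotientGroup.ker_mk']
  have hle : Nat.card (A.map q) ≤ Nat.card (qp.ker.map (q.comp A.subtype)) * Nat.card qp.range := by
    have h1 : Nat.card (A.map q) * (q.comp A.subtype).ker.index ≤
        Nat.card (A.map q) * (q.comp A.subtype).ker.index := le_rfl
    have e1 : A.map q = (⊤ : Subgroup A).map (q.comp A.subtype) := by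
      rw [← Subgroup.map_map, ← MonoidHom.range_eq_map, Subgroup.range_subtype]
    have e2 : Nat.card ((⊤ : Subgroup A).map (q.comp A.subtype)) =
        Nat.card (qp.ker.map (q.comp A.subtype)) *
          (qp.ker.map (q.comp A.subtype)).relIndex ((⊤ : Subgroup A).map (q.comp A.subtype)) :=
      by
        rw [← Subgroup.relIndex_bot_left, ← Subgroup.relIndex_bot_left]
        exact (Subgroup.relIndex_mul_relIndex ⊥ _ _ bot_le (Subgroup.map_mono le_top)).symm
    rw [e1, e2]
    refine Nat.mul_le_mul_left _ ?_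
    rw [← Subgroup.index_ker qp]
    rw [← Subgroup.relIndex_top_right]
    refine Nat.le_of_dvd (Nat.pos_of_ne_zero (by
      rw [Subgroup.relIndex_top_right]; exact Subgroup.index_ne_zero_of_finite)) ?_
    rw [Subgroup.relIndex_map_map, top_sup_eq]
    exact Subgroup.relIndex_dvd_of_le_left _ le_sup_left
  calc Z.relIndex A ≤ _ := hcardA.trans_le hle
    _ ≤ M * E ^ finrank F V := Nat.mul_le_mul hker hrange

/-- A non-central element has a proper nonzero subspace invariant under its centralizer. -/
theorem exists_invariant_of_noncentral [Nontrivial V] (hρ : Function.Injective ρ) {g : G}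
    (hg : g ∉ Subgroup.center G) : ∃ W : Submodule F V, W ≠ ⊥ ∧ W ≠ ⊤ ∧
      ∀ h ∈ Subgroup.centralizer ({g} : Set G), ∀ v ∈ W, ρ h v ∈ W := by
  obtain ⟨μ, hμ⟩ := Module.End.exists_eigenvalue (ρ g)
  refine ⟨(ρ g).eigenspace μ, hμ, fun htop => hg (mem_center_of_scalar ρ hρ (c := μ) ?_),
    fun h hh v hv => ?_⟩
  · refine LinearMap.ext fun v => ?_
    rw [LinearMap.smul_apply, Module.End.one_apply, ← Module.End.mem_eigenspace_iff, htop]
    exact Submodule.mem_top
  · rw [Module.End.mem_eigenspace_iff] at hv ⊢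
    rw [← Module.End.mul_apply, ← map_mul, ← Subgroup.mem_centralizer_singleton_iff.mp hh,
      map_mul, Module.End.mul_apply, hv, map_smul]

/-- In an irreducible group central elements are scalar. -/
theorem scalar_of_central [Nontrivial V]
    (hirr : ∀ W : Submodule F V, (∀ g, ∀ v ∈ W, ρ g v ∈ W) → W = ⊥ ∨ W = ⊤)
    {z : G} (hz : z ∈ Subgroup.center G) : ∃ c : F, ρ z = c • 1 := by
  obtain ⟨μ, hμ⟩ := Module.End.exists_eigenvalue (ρ z)
  have hinv : ∀ g, ∀ v ∈ (ρ z).eigenspace μ, ρ g v ∈ (ρ z).eigenspace μ := by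
    intro g v hv
    rw [Module.End.mem_eigenspace_iff] at hv ⊢
    rw [← Module.End.mul_apply, ← map_mul, ← Subgroup.mem_center_iff.mp hz g, map_mul,
      Module.End.mul_apply, hv, map_smul]
  rcases hirr _ hinv with h | h
  · exact absurd h hμ
  · refine ⟨μ, LinearMap.ext fun v => ?_⟩
    rw [LinearMap.smul_apply, Module.End.one_apply, ← Module.End.mem_eigenspace_iff, h]
    exact Submodule.mem_top

/-- Commutation modulo the scalars multiplies the centralizer by at most the degree. -/
theorem card_centralizer_mk_le [Nontrivial V] (hρ : Function.Injective ρ)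
    (hscal : ∀ z ∈ Subgroup.center G, ∃ c : F, ρ z = c • 1) (g : G) :
    Nat.card (Subgroup.centralizer ({(g : G ⧸ Subgroup.center G)} : Set (G ⧸ Subgroup.center G))) ≤
      (Subgroup.center G).relIndex (Subgroup.centralizer ({g} : Set G)) * finrank F V := by
  classical
  set Z := Subgroup.center G
  let q := QuotientGroup.mk' Z
  set P := (Subgroup.centralizer ({(g : G ⧸ Z)} : Set (G ⧸ Z))).comap q
  have hP : ∀ h ∈ P, h * g * h⁻¹ * g⁻¹ ∈ Z := by
    intro h hh
    have h1 := Subgroup.mem_centralizer_singleton_iff.mp (Subgroup.mem_comap.mp hh)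
    rw [← QuotientGroup.eq_one_iff]
    simp only [q, QuotientGroup.mk'_apply] at h1
    rw [QuotientGroup.mk_mul, QuotientGroup.mk_mul, QuotientGroup.mk_mul, QuotientGroup.mk_inv,
      QuotientGroup.mk_inv, h1]
    group
  let κ : P →* G := MonoidHom.mk' (fun h => (h : G) * g * (h : G)⁻¹ * g⁻¹) fun a b => by
    have hz := Subgroup.mem_center_iff.mp (hP b b.2)
    rw [Subgroup.coe_mul]
    calc (a : G) * b * g * ((a : G) * b)⁻¹ * g⁻¹
        = (a : G) * ((b : G) * g * (b : G)⁻¹ * g⁻¹) * (g * (a : G)⁻¹ * g⁻¹) := by group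
      _ = (b : G) * g * (b : G)⁻¹ * g⁻¹ * ((a : G) * g * (a : G)⁻¹ * g⁻¹) := by
          rw [hz (a : G)]; group
      _ = (a : G) * g * (a : G)⁻¹ * g⁻¹ * ((b : G) * g * (b : G)⁻¹ * g⁻¹) := (hz _).symm
  haveI : NeZero (finrank F V) := ⟨(Module.finrank_pos (R := F) (M := V)).ne'⟩
  have hrange : Nat.card κ.range ≤ finrank F V := by
    have hc : ∀ x : κ.range, ∃ c : F, ρ x = c • 1 ∧ c ^ finrank F V = 1 := by
      rintro ⟨_, h, rfl⟩
      obtain ⟨c, hc⟩ := hscal _ (hP h h.2)
      refine ⟨c, hc, ?_⟩
      have h1 := congrArg LinearMap.det hc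
      rw [LinearMap.det_smul, map_one, mul_one] at h1
      rw [← h1]
      let D : G →* F := LinearMap.det.comp ρ
      have hD : ∀ x : G, D x * D x⁻¹ = 1 := fun x => by
        rw [← map_mul, mul_inv_cancel, map_one]
      show D ((h : G) * g * (h : G)⁻¹ * g⁻¹) = 1
      simp only [map_mul]
      rw [mul_comm (D _) (D g), mul_assoc (D g), hD, mul_one, hD]
    choose c hc hc1 using hc
    calc Nat.card κ.range ≤ Nat.card (rootsOfUnity (finrank F V) F) :=
          Nat.card_le_card_of_injective (fun x => rootsOfUnity.mkOfPowEq (c x) (hc1 x))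
            fun x y hxy => Subtype.ext (hρ (by
              have := congrArg (fun u : rootsOfUnity (finrank F V) F => ((u : Fˣ) : F)) hxy
              simp only [rootsOfUnity.val_mkOfPowEq_coe] at this
              rw [hc x, hc y, this]))
      _ ≤ _ := by
          exact card_rootsOfUnity F (finrank F V)
  have hker : κ.ker = (Subgroup.centralizer ({g} : Set G)).subgroupOf P := by
    ext h
    rw [MonoidHom.mem_ker, Subgroup.mem_subgroupOf, Subgroup.mem_centralizer_singleton_iff]
    show (h : G) * g * (h : G)⁻¹ * g⁻¹ = 1 ↔ _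
    rw [mul_inv_eq_one, mul_inv_eq_iff_eq_mul]
  have hCP : Subgroup.centralizer ({g} : Set G) ≤ P := fun h hh => by
    rw [Subgroup.mem_comap, Subgroup.mem_centralizer_singleton_iff]
    show q h * q g = q g * q h
    rw [← map_mul, ← map_mul, Subgroup.mem_centralizer_singleton_iff.mp hh]
  have hZC : Z ≤ Subgroup.centralizer ({g} : Set G) := fun z hz =>
    Subgroup.mem_centralizer_singleton_iff.mpr (Subgroup.mem_center_iff.mp hz g).symm
  have e1 : Nat.card (Subgroup.centralizer ({(g : G ⧸ Z)} : Set (G ⧸ Z))) = Z.relIndex P := by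
    have h := Subgroup.relIndex_ker (K := P) q
    rw [QuotientGroup.ker_mk', Subgroup.map_comap_eq_self_of_surjective
      (QuotientGroup.mk'_surjective Z)] at h
    exact h.symm
  rw [e1, ← Subgroup.relIndex_mul_relIndex Z _ P hZC hCP]
  refine Nat.mul_le_mul_left _ ?_
  rw [Subgroup.relIndex, ← hker, Subgroup.index_ker]
  exact hrange

/-- Along iterated powers the centralizer becomes stable within `(dim V) ^ 2` steps. -/
theorem exists_stable_power (hρ : Function.Injective ρ) (g : G) (e : ℕ) :
    ∃ j ≤ finrank F V ^ 2, Subgroup.centralizer ({g ^ e ^ j} : Set G) =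
      Subgroup.centralizer ({g ^ e ^ (j + 1)} : Set G) := by
  let C : ℕ → Submodule F (Module.End F V) := fun j =>
    Subalgebra.toSubmodule (Subalgebra.centralizer F ({ρ g ^ e ^ j} : Set (Module.End F V)))
  have hmemC : ∀ j x, x ∈ C j ↔ ρ g ^ e ^ j * x = x * ρ g ^ e ^ j := fun j x => by
    simp [C, Subalgebra.mem_centralizer_iff]
  have hmono : ∀ j, C j ≤ C (j + 1) := by
    intro j x hx
    rw [hmemC] at hx ⊢
    rw [pow_succ, pow_mul]
    exact (Commute.pow_left hx e)
  have hlim : ∀ j, j ≤ finrank F V ^ 2 + 1 → (∀ i < j, C i ≠ C (i + 1)) →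
      j ≤ finrank F (C j) := by
    intro j
    induction j with
    | zero => intros; exact Nat.zero_le _
    | succ j ih =>
      intro hj hne
      have h1 := ih (by omega) fun i hi => hne i (by omega)
      have h2 := Submodule.finrank_lt_finrank_of_lt (lt_of_le_of_ne (hmono j) (hne j (by omega)))
      omega
  obtain ⟨j, hj, hC⟩ : ∃ j ≤ finrank F V ^ 2, C j = C (j + 1) := by
    by_contra hc
    push Not at hc
    have h1 := hlim (finrank F V ^ 2 + 1) le_rfl fun i hi => hc i (by omega)
    have h2 : finrank F (C (finrank F V ^ 2 + 1)) ≤ finrank F (Module.End F V) :=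
      Submodule.finrank_le _
    rw [show finrank F (Module.End F V) = finrank F V * finrank F V from
      Module.finrank_linearMap F F V V] at h2
    rw [← sq] at h2
    omega
  refine ⟨j, hj, Subgroup.ext fun h => ?_⟩
  have key : ∀ i, h ∈ Subgroup.centralizer ({g ^ e ^ i} : Set G) ↔ ρ h ∈ C i := fun i => by
    rw [Subgroup.mem_centralizer_singleton_iff, hmemC, ← map_pow, ← map_mul, ← map_mul,
      hρ.eq_iff, eq_comm]
  rw [key, key, hC]

end Linear

end CfsgLib.BrauerFeit
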