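import Cfsg.Agent.Lib.BrauerFeit.Gap

/-!
A class equation: a group in which every nontrivial element has a small centralizer or lies in
exactly one member of a family of sets with large stabilizers has bounded order.
-/

set_option autoImplicit false
set_option linter.style.haveILetI false

namespace CfsgLib.BrauerFeit

open scoped Nat

/-- A finite group acting on a finite type: `|Q|` divides `L * |α|` as soon as all stabilizer
orders divide `L`. -/
theorem card_dvd_mul_of_stabilizer_dvd {Q α : Type*} [Group Q] [Finite Q] [MulAction Q α]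
    [Finite α] (L : ℕ) (h : ∀ a : α, Nat.card (MulAction.stabilizer Q a) ∣ L) :
    Nat.card Q ∣ L * Nat.card α := by
  classical
  haveI := Fintype.ofFinite α
  haveI := Fintype.ofFinite (MulAction.orbitRel.Quotient Q α)
  rw [Nat.card_congr (MulAction.selfEquivSigmaOrbits Q α), Nat.card_sigma, Finset.mul_sum]
  refine Finset.dvd_sum fun ω _ => ?_
  have e : Nat.card (MulAction.orbit Q ω.out) * Nat.card (MulAction.stabilizer Q ω.out) =
      Nat.card Q := by
    rw [← Nat.card_prod]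
    exact Nat.card_congr (MulAction.orbitProdStabilizerEquivGroup Q ω.out)
  rw [← e, mul_comm L]
  exact Nat.mul_dvd_mul_left _ (h _)

/-- The class equation of a group with a family of conjugate sets. -/
theorem card_le_of_partition {Q : Type*} [Group Q] [Finite Q] (W B : ℕ)
    (𝒰 : Set (Set Q))
    (hconj : ∀ U ∈ 𝒰, ∀ q : Q, (fun x => q * x * q⁻¹) '' U ∈ 𝒰)
    (hdisj : ∀ U ∈ 𝒰, ∀ U' ∈ 𝒰, ∀ x ∈ U, x ∈ U' → U = U')
    (hone : ∀ U ∈ 𝒰, (1 : Q) ∉ U)
    (hsmall : ∀ x : Q, x ≠ 1 → (∀ U ∈ 𝒰, x ∉ U) →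
      Nat.card (Subgroup.centralizer ({x} : Set Q)) ≤ B)
    (hbig : ∀ U ∈ 𝒰, ∃ (N : Subgroup Q) (a d w : ℕ),
      (∀ q, q ∈ N ↔ (fun x => q * x * q⁻¹) '' U = U) ∧ N ≠ ⊤ ∧ 2 ≤ d ∧ 1 ≤ a ∧
      w ≤ W ∧ Nat.card U + 1 = a * d ∧ w * d = Nat.card N) :
    Nat.card Q ≤ gapBound (2 * W) (B ! * W !) := by
  classical
  letI inst : MulAction Q 𝒰 :=
    { smul := fun q U => ⟨(fun x => q * x * q⁻¹) '' U.1, hconj U.1 U.2 q⟩
      one_smul := fun U => Subtype.ext (show (fun x => (1 : Q) * x * 1⁻¹) '' U.1 = U.1 by simp)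
      mul_smul := fun q r U => Subtype.ext (by
        show (fun x => q * r * x * (q * r)⁻¹) '' U.1 =
          (fun x => q * x * q⁻¹) '' ((fun x => r * x * r⁻¹) '' U.1)
        rw [Set.image_image]
        congr 1
        funext x
        group) }
  haveI := Fintype.ofFinite Q
  haveI := Fintype.ofFinite 𝒰
  set X := Nat.card Q with hX
  set L := B ! * W ! with hL
  let Small : Set Q := {x | x ≠ 1 ∧ ∀ U ∈ 𝒰, x ∉ U}
  have hsm : X ∣ L * Nat.card Small := by
    letI : MulAction Q Small :=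
      { smul := fun q x => ⟨q * x.1 * q⁻¹, by
          refine ⟨fun h => x.2.1 (conj_eq_one_iff.mp h), fun U hU hx => ?_⟩
          refine x.2.2 _ (hconj U hU q⁻¹) ⟨_, hx, ?_⟩
          group⟩
        one_smul := fun x => Subtype.ext (show (1 : Q) * x.1 * 1⁻¹ = x.1 by simp)
        mul_smul := fun q r x => Subtype.ext (by
          show q * r * x.1 * (q * r)⁻¹ = q * (r * x.1 * r⁻¹) * q⁻¹
          group) }
    refine card_dvd_mul_of_stabilizer_dvd L fun x => ?_
    refine Dvd.dvd.mul_right (Nat.dvd_factorial Nat.card_pos ?_) _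
    refine le_trans (le_of_eq (congrArg (fun H : Subgroup Q => Nat.card H) ?_))
      (hsmall x.1 x.2.1 x.2.2)
    ext q
    rw [MulAction.mem_stabilizer_iff, Subgroup.mem_centralizer_singleton_iff, Subtype.ext_iff]
    show q * x.1 * q⁻¹ = x.1 ↔ _
    rw [mul_inv_eq_iff_eq_mul]
  obtain ⟨s, hs⟩ := hsm
  -- the count
  have hcount : X = 1 + Nat.card Small + Nat.card (Σ U : 𝒰, U.1) := by
    let f : Option (Small ⊕ Σ U : 𝒰, U.1) → Q := fun o =>
      o.elim 1 (fun s => s.elim (fun x => x.1) (fun p => p.2.1))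
    have hf : Function.Bijective f := by
      refine ⟨?_, fun x => ?_⟩
      · rintro (_ | ⟨a⟩ | ⟨U, a⟩) (_ | ⟨b⟩ | ⟨U', b⟩) h <;>
          simp only [f, Option.elim, Sum.elim_inl, Sum.elim_inr] at h
        · rfl
        · exact absurd h.symm b.2.1
        · exact absurd (h ▸ b.2) (hone _ U'.2)
        · exact absurd h a.2.1
        · rw [Subtype.ext h]
        · exact absurd (h ▸ b.2) (a.2.2 _ U'.2)
        · exact absurd (h.symm ▸ a.2) (hone _ U.2)
        · exact absurd (h.symm ▸ a.2) (b.2.2 _ U.2)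
        · obtain rfl : U = U' := Subtype.ext (hdisj _ U.2 _ U'.2 _ a.2 (h ▸ b.2))
          rw [Subtype.ext h]
      · by_cases hx : x = 1
        · exact ⟨none, hx.symm⟩
        · by_cases hU : ∃ U ∈ 𝒰, x ∈ U
          · obtain ⟨U, hU, hxU⟩ := hU
            exact ⟨some (Sum.inr ⟨⟨U, hU⟩, ⟨x, hxU⟩⟩), rfl⟩
          · push Not at hU
            exact ⟨some (Sum.inl ⟨x, hx, hU⟩), rfl⟩
    rw [hX, ← Nat.card_eq_of_bijective f hf, Finite.card_option, Nat.card_sum]
    ring
  let Ω := MulAction.orbitRel.Quotient Q 𝒰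
  haveI : Fintype Ω := Fintype.ofFinite _
  have hN : ∀ ω : Ω, ∃ a d w : ℕ, MulAction.stabilizer Q ω.out ≠ ⊤ ∧ 2 ≤ d ∧ 1 ≤ a ∧
      w ≤ W ∧ Nat.card (ω.out).1 + 1 = a * d ∧
      w * d = Nat.card (MulAction.stabilizer Q ω.out) := by
    intro ω
    obtain ⟨N, a, d, w, hN, h1, h2, h3, h4, h5, h6⟩ := hbig _ ω.out.2
    have : MulAction.stabilizer Q ω.out = N := by
      ext q
      rw [MulAction.mem_stabilizer_iff, hN, Subtype.ext_iff]
      rfl
    exact ⟨a, d, w, this ▸ h1, h2, h3, h4, h5, this ▸ h6⟩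
  choose a d w hne hd ha hw hcard hwd using hN
  set n : Ω → ℕ := fun ω => Nat.card (MulAction.stabilizer Q ω.out) with hn
  have hn0 : ∀ ω, 0 < n ω := fun ω => Nat.card_pos
  have hcU : ∀ (q : Q) (U : 𝒰), Nat.card (q • U : 𝒰).1 = Nat.card U.1 := fun q U =>
    Nat.card_image_of_injective (fun x y hxy => mul_left_cancel (mul_right_cancel hxy)) _
  have hsum : (Nat.card (Σ U : 𝒰, U.1) : ℚ) =
      ∑ ω : Ω, (X : ℚ) / n ω * Nat.card (ω.out).1 := by
    rw [Nat.card_sigma, Nat.cast_sum,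
      ← Finset.sum_fiberwise Finset.univ (fun U : 𝒰 => (Quotient.mk'' U : Ω))]
    refine Finset.sum_congr rfl fun ω _ => ?_
    have hfib : (Finset.univ.filter fun U : 𝒰 => (Quotient.mk'' U : Ω) = ω) =
        (MulAction.orbit Q ω.out).toFinset := by
      ext U
      rw [Finset.mem_filter, Set.mem_toFinset, ← MulAction.orbitRel_apply]
      simp only [Finset.mem_univ, true_and]
      constructor
      · intro h
        exact Quotient.exact (h.trans (Quotient.out_eq ω).symm)
      · intro h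
        exact (Quotient.sound h).trans (Quotient.out_eq ω)
    rw [hfib, Finset.sum_congr rfl (g := fun _ => (Nat.card (ω.out).1 : ℚ)) ?_]
    · rw [Finset.sum_const, nsmul_eq_mul, Set.toFinset_card]
      congr 1
      rw [eq_div_iff (by exact_mod_cast (hn0 ω).ne'), hX, ← Nat.card_eq_fintype_card, hn]
      norm_cast
      rw [← Nat.card_prod]
      exact Nat.card_congr (MulAction.orbitProdStabilizerEquivGroup Q ω.out)
    · intro U hU
      obtain ⟨q, rfl⟩ := Set.mem_toFinset.mp hU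
      rw [hcU]
  have hX0 : (X : ℚ) ≠ 0 := by
    have : 0 < X := Nat.card_pos
    exact_mod_cast this.ne'
  have hd0 : ∀ ω, (d ω : ℚ) ≠ 0 := fun ω => by
    have := hd ω
    exact_mod_cast (by omega : d ω ≠ 0)
  have hw0 : ∀ ω, 0 < w ω := fun ω => by
    rcases Nat.eq_zero_or_pos (w ω) with h | h
    · have := hwd ω
      rw [h, zero_mul] at this
      exact absurd this.symm (hn0 ω).ne'
    · exact h
  -- the fraction of the group covered by one orbit
  have hterm : ∀ ω, (Nat.card (ω.out).1 : ℚ) / n ω = (a ω : ℚ) / w ω - 1 / n ω := by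
    intro ω
    have h1 : (Nat.card (ω.out).1 : ℚ) + 1 = (a ω : ℚ) * d ω := by exact_mod_cast hcard ω
    have h2 : (n ω : ℚ) = (w ω : ℚ) * d ω := by exact_mod_cast (hwd ω).symm
    have h3 : (w ω : ℚ) ≠ 0 := by exact_mod_cast (hw0 ω).ne'
    have h4 := hd0 ω
    rw [h2, eq_sub_of_add_eq h1]
    field_simp
  have heq : (1 : ℚ) = 1 / X + (Nat.card Small : ℚ) / X +
      ∑ ω : Ω, ((a ω : ℚ) / w ω - 1 / n ω) := by
    have h := congrArg (fun m : ℕ => (m : ℚ) / X) hcount
    simp only [Nat.cast_add, Nat.cast_one, div_self hX0, hsum] at h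
    refine h.trans ?_
    rw [add_div, add_div, Finset.sum_div]
    congr 1
    refine Finset.sum_congr rfl fun ω _ => ?_
    rw [← hterm]
    field_simp
  have hk : (Finset.univ : Finset Ω).card ≤ 2 * W := by
    have hlow : ∀ ω : Ω, (1 : ℚ) / (2 * W) ≤ (a ω : ℚ) / w ω - 1 / n ω := by
      intro ω
      have h2 : (n ω : ℚ) = (w ω : ℚ) * d ω := by exact_mod_cast (hwd ω).symm
      have h3 : (0 : ℚ) < w ω := by exact_mod_cast hw0 ω
      have h4 : (2 : ℚ) ≤ d ω := by exact_mod_cast hd ω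
      have h5 : (1 : ℚ) ≤ a ω := by exact_mod_cast ha ω
      have h6 : (w ω : ℚ) ≤ W := by exact_mod_cast hw ω
      calc (1 : ℚ) / (2 * W) ≤ 1 / (2 * w ω) := by gcongr
        _ = 1 / w ω - 1 / (w ω * 2) := by field_simp; ring
        _ ≤ (a ω : ℚ) / w ω - 1 / (w ω * d ω) := by gcongr
        _ = _ := by rw [h2]
    have h1 : ∑ _ω : Ω, (1 : ℚ) / (2 * W) ≤ ∑ ω : Ω, ((a ω : ℚ) / w ω - 1 / n ω) :=
      Finset.sum_le_sum fun ω _ => hlow ω
    rw [Finset.sum_const, nsmul_eq_mul, mul_one_div] at h1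
    have h2 : (0 : ℚ) ≤ 1 / X := by positivity
    have h3 : (0 : ℚ) ≤ (Nat.card Small : ℚ) / X := by positivity
    have h4 : ((Finset.univ : Finset Ω).card : ℚ) / (2 * W) ≤ 1 := by linarith
    rcases Nat.eq_zero_or_pos W with rfl | hWpos
    · rw [Nat.le_zero, Finset.card_eq_zero, Finset.univ_eq_empty_iff]
      exact ⟨fun ω => absurd (hw ω) (by have := hw0 ω; omega)⟩
    · rw [div_le_one (by positivity)] at h4
      exact_mod_cast h4
  have hnlt : ∀ ω, n ω < X := by
    intro ω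
    rcases lt_or_eq_of_le (Nat.le_of_dvd Nat.card_pos
      (Subgroup.card_subgroup_dvd_card (MulAction.stabilizer Q ω.out))) with h | h
    · exact h
    · exact absurd (Subgroup.eq_top_of_card_eq _ h) (hne ω)
  have hdiv : ∀ ω, w ω ∣ L := fun ω => (Nat.dvd_factorial (hw0 ω) (hw ω)).mul_left _
  choose t ht using hdiv
  refine le_gapBound (2 * W) L Finset.univ n X
    ((∑ ω : Ω, ((a ω * t ω : ℕ) : ℤ)) + (s : ℤ) - (L : ℤ))
    (Nat.mul_pos (Nat.factorial_pos _) (Nat.factorial_pos _)) hk Nat.card_pos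
    (fun ω _ => hn0 ω) (fun ω _ => hnlt ω) ?_
  have hs' : (L : ℚ) * Nat.card Small = (X : ℚ) * s := by exact_mod_cast hs
  have h7 : ∀ ω, (L : ℚ) * ((a ω : ℚ) / w ω) = ((a ω * t ω : ℕ) : ℚ) := by
    intro ω
    have h3 : (w ω : ℚ) ≠ 0 := by exact_mod_cast (hw0 ω).ne'
    have h5 : (L : ℚ) = (w ω : ℚ) * t ω := by exact_mod_cast ht ω
    rw [h5, Nat.cast_mul]
    field_simp
  have h8 := congrArg (fun y : ℚ => (L : ℚ) * y) heq
  simp only [mul_add, mul_one, Finset.mul_sum, mul_sub, Finset.sum_sub_distrib] at h8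
  simp only [h7] at h8
  have h9 : (L : ℚ) * ((Nat.card Small : ℚ) / X) = s := by
    rw [mul_div_assoc', hs', mul_comm, mul_div_assoc, div_self hX0, mul_one]
  rw [h9] at h8
  push_cast at h8 ⊢
  simp only [mul_one_div] at h8
  linarith

end CfsgLib.BrauerFeit
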