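import Mathlib

/-!
The arithmetic of a class equation with few long terms: in an equation
`∑ L / x i - L / X = r` with integral `r` and all `x i < X` the number `X` is bounded.
-/

set_option autoImplicit false

namespace CfsgLib.BrauerFeit

/-- The bound for `X` when there are at most `k` long terms and the denominator is `L`. -/
def gapBound : ℕ → ℕ → ℕ
  | 0, L => L
  | k + 1, L => max L (gapBound k (L * Nat.factorial ((k + 1) * L)))

theorem le_gapBound_self (k L : ℕ) : L ≤ gapBound k L := by
  cases k <;> simp [gapBound]

theorem le_gapBound {ι : Type*} : ∀ (k L : ℕ) (s : Finset ι) (x : ι → ℕ) (X : ℕ) (r : ℤ),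
    0 < L → s.card ≤ k → 0 < X → (∀ i ∈ s, 0 < x i) → (∀ i ∈ s, x i < X) →
    (∑ i ∈ s, (L : ℚ) / x i) - (L : ℚ) / X = r → X ≤ gapBound k L := by
  classical
  intro k
  induction k with
  | zero =>
    intro L s x X r hL hs hX _ _ he
    rw [Finset.card_eq_zero.mp (Nat.le_zero.mp hs), Finset.sum_empty, zero_sub] at he
    have hq : (0 : ℚ) < (L : ℚ) / X := by positivity
    have hr : r ≤ -1 := by
      have : (r : ℚ) < 0 := by rw [← he]; linarith
      have : r < 0 := by exact_mod_cast this
      omega
    have hr' : (r : ℚ) ≤ -1 := by exact_mod_cast hr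
    have h1 : (1 : ℚ) ≤ (L : ℚ) / X := by linarith
    rw [le_div_iff₀ (by positivity), one_mul] at h1
    exact_mod_cast h1
  | succ k ih =>
    intro L s x X r hL hs hX hx hxX he
    rcases s.eq_empty_or_nonempty with rfl | hne
    · rw [Finset.sum_empty, zero_sub] at he
      have hq : (0 : ℚ) < (L : ℚ) / X := by positivity
      have hr : r ≤ -1 := by
        have : (r : ℚ) < 0 := by rw [← he]; linarith
        have : r < 0 := by exact_mod_cast this
        omega
      have hr' : (r : ℚ) ≤ -1 := by exact_mod_cast hr
      have h1 : (1 : ℚ) ≤ (L : ℚ) / X := by linarith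
      rw [le_div_iff₀ (by positivity), one_mul] at h1
      exact le_trans (by exact_mod_cast h1) (le_gapBound_self _ _)
    · have hpos : (1 : ℚ) ≤ r := by
        obtain ⟨i, hi⟩ := hne
        have h1 : (L : ℚ) / x i ≤ ∑ j ∈ s, (L : ℚ) / x j :=
          Finset.single_le_sum (f := fun j => (L : ℚ) / x j) (fun j _ => by positivity) hi
        have h2 : (L : ℚ) / X < (L : ℚ) / x i := by
          have := hx i hi
          gcongr
          exact_mod_cast hxX i hi
        have : (0 : ℚ) < r := by rw [← he]; linarith
        have : 0 < r := by exact_mod_cast this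
        exact_mod_cast (show (1 : ℤ) ≤ r by omega)
      obtain ⟨i, hi, hle⟩ : ∃ i ∈ s, x i ≤ (k + 1) * L := by
        by_contra hc
        push Not at hc
        have h1 : ∀ j ∈ s, (L : ℚ) / x j < 1 / (k + 1 : ℚ) := by
          intro j hj
          have hxj := hx j hj
          rw [div_lt_div_iff₀ (by positivity) (by positivity), one_mul]
          have := hc j hj
          calc (L : ℚ) * (k + 1) = (((k + 1) * L : ℕ) : ℚ) := by push_cast; ring
            _ < (x j : ℚ) := by exact_mod_cast this
        have h2 : ∑ j ∈ s, (L : ℚ) / x j < ∑ _j ∈ s, 1 / (k + 1 : ℚ) :=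
          Finset.sum_lt_sum_of_nonempty hne h1
        rw [Finset.sum_const, nsmul_eq_mul] at h2
        have h3 : (s.card : ℚ) * (1 / (k + 1)) ≤ 1 := by
          rw [mul_one_div, div_le_one (by positivity)]
          exact_mod_cast hs
        have hq : (0 : ℚ) ≤ (L : ℚ) / X := by positivity
        linarith
      set N := Nat.factorial ((k + 1) * L) with hN
      obtain ⟨t, ht⟩ : x i ∣ N := Nat.dvd_factorial (hx i hi) hle
      refine le_max_of_le_right (ih (L * N) (s.erase i) x X (r * N - L * t) ?_ ?_ hX
        (fun j hj => hx j (Finset.mem_of_mem_erase hj))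
        (fun j hj => hxX j (Finset.mem_of_mem_erase hj)) ?_)
      · exact Nat.mul_pos hL (Nat.factorial_pos _)
      · have := Finset.card_erase_of_mem hi
        omega
      · rw [← Finset.add_sum_erase s _ hi] at he
        have hxi : (x i : ℚ) ≠ 0 := by exact_mod_cast (hx i hi).ne'
        have hNt : (N : ℚ) = (x i : ℚ) * t := by exact_mod_cast ht
        have e1 : ∀ j, ((L * N : ℕ) : ℚ) / x j = (N : ℚ) * ((L : ℚ) / x j) := fun j => by
          push_cast; ring
        rw [Finset.sum_congr rfl fun j _ => e1 j, ← Finset.mul_sum]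
        have e2 : ((L * t : ℕ) : ℚ) = (N : ℚ) * ((L : ℚ) / x i) := by
          rw [hNt]; field_simp; push_cast; ring
        push_cast at e2 ⊢
        rw [e2, ← he]
        ring

end CfsgLib.BrauerFeit
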