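import Cfsg.Agent.Lib.BrauerFeit.Stable

/-!
The theorem of Brauer and Feit: induction on the degree and extension of scalars.
-/

set_option autoImplicit false
set_option linter.style.haveILetI false
set_option linter.unusedSectionVars false

universe u v

namespace CfsgLib.BrauerFeit

open Module
open scoped Nat

theorem exists_bound (p m : ℕ) [hp : Fact p.Prime] : ∀ n : ℕ, ∃ c, Bound.{u, v} p m n c := by
  intro n
  induction n with
  | zero =>
    refine ⟨1, fun F _ _ _ G _ _ V _ _ _ ρ hρ hn _ => ?_⟩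
    haveI : Subsingleton V := Module.finrank_zero_iff.mp (Nat.le_zero.mp hn)
    haveI : Subsingleton G := ⟨fun a b => hρ (LinearMap.ext fun v => Subsingleton.elim _ _)⟩
    exact ⟨⊤, inferInstance, ⟨⟨fun a b => Subsingleton.elim _ _⟩⟩, (Subgroup.index_top).le⟩
  | succ n ih =>
    obtain ⟨c, hc⟩ := ih
    refine ⟨max c (max (redBound p m c) (irrBound p m n c)),
      fun F _ _ _ G _ _ V _ _ _ ρ hρ hn hm => ?_⟩
    rcases Nat.lt_or_ge n (finrank F V) with h | h
    · by_cases hirr : ∀ W : Submodule F V, (∀ g, ∀ v ∈ W, ρ g v ∈ W) → W = ⊥ ∨ W = ⊤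
      · obtain ⟨A, h1, h2, h3⟩ := exists_of_irreducible hc ρ hρ (by omega) hm hirr
        exact ⟨A, h1, h2, h3.trans ((le_max_right _ _).trans (le_max_right _ _))⟩
      · push Not at hirr
        obtain ⟨W, hW, hW0, hW1⟩ := hirr
        obtain ⟨A, h1, h2, h3⟩ := exists_of_invariant hc ρ hρ hn hm W hW0 hW1 hW
        exact ⟨A, h1, h2, h3.trans ((le_max_left _ _).trans (le_max_right _ _))⟩
    · obtain ⟨A, h1, h2, h3⟩ := hc F G V ρ hρ h hm
      exact ⟨A, h1, h2, h3.trans (le_max_left _ _)⟩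

/-- Brauer–Feit: over any field of characteristic `p`. -/
theorem exists_bound_field (p : ℕ) [hp : Fact p.Prime] :
    ∃ f : ℕ → ℕ → ℕ, ∀ (G : Type u) [Group G] [Finite G] (F : Type v) [Field F] [CharP F p]
      (n : ℕ) (ρ : Representation F G (Fin n → F)), Function.Injective ρ →
      ∀ m : ℕ, (Nat.card G).factorization p = m →
      ∃ A : Subgroup G, A.Normal ∧ IsMulCommutative A ∧ A.index < f m n := by
  choose c hc using fun m n => exists_bound.{u, v} p m n
  refine ⟨fun m n => c m n + 1, fun G _ _ F _ _ n ρ hρ m hm => ?_⟩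
  let K := AlgebraicClosure F
  haveI : CharP K p := charP_of_injective_algebraMap (algebraMap F K).injective p
  let τ : Module.End F (Fin n → F) →* Module.End K (Fin n → K) :=
    ((Matrix.toLinAlgEquiv' : Matrix (Fin n) (Fin n) K ≃ₐ[K] _).toRingEquiv.toRingHom.comp
      ((algebraMap F K).mapMatrix.comp
        (LinearMap.toMatrixAlgEquiv' : _ ≃ₐ[F] Matrix (Fin n) (Fin n) F).toRingEquiv.toRingHom)).toMonoidHom
  have hτ : Function.Injective τ :=
    (Matrix.toLinAlgEquiv' : Matrix (Fin n) (Fin n) K ≃ₐ[K] _).injective.comp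
      ((Matrix.map_injective (algebraMap F K).injective).comp
        (LinearMap.toMatrixAlgEquiv' : _ ≃ₐ[F] Matrix (Fin n) (Fin n) F).injective)
  obtain ⟨A, h1, h2, h3⟩ := hc m n K G (Fin n → K) (τ.comp ρ) (hτ.comp hρ)
    (Module.finrank_fin_fun K).le hm.le
  exact ⟨A, h1, h2, Nat.lt_succ_of_le h3⟩

end CfsgLib.BrauerFeit
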