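import Cfsg.Agent.Lib.BrauerFeit.Basic

/-!
Reducible linear groups of bounded `p`-part are virtually abelian as soon as their constituents are.
-/

set_option autoImplicit false
set_option linter.style.haveILetI false
set_option linter.unusedSectionVars false

universe u v

namespace CfsgLib.BrauerFeit

open Module
open scoped Nat

/-- Degree at most `n` and `p`-part at most `p ^ m` force an abelian normal subgroup of index at
most `c`. -/
def Bound (p m n c : ℕ) : Prop :=
  ∀ (F : Type v) [Field F] [IsAlgClosed F] [CharP F p] (G : Type u) [Group G] [Finite G]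
    (V : Type v) [AddCommGroup V] [Module F V] [FiniteDimensional F V]
    (ρ : G →* Module.End F V), Function.Injective ρ → finrank F V ≤ n →
    (Nat.card G).factorization p ≤ m → ∃ A : Subgroup G, A.Normal ∧ IsMulCommutative A ∧ A.index ≤ c

/-- The bound for reducible groups. -/
def redBound (p m c : ℕ) : ℕ := p ^ m * (p ^ m)! * (c * c)

theorem eq_mul_of_pow {G : Type*} [Group G] {x y t : G} (h : x * y * x⁻¹ = t * y)
    (ht : Commute x t) (j : ℕ) : x ^ j * y * (x ^ j)⁻¹ = t ^ j * y := by
  induction j with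
  | zero => simp
  | succ j ih =>
    calc x ^ (j + 1) * y * (x ^ (j + 1))⁻¹ = x * (x ^ j * y * (x ^ j)⁻¹) * x⁻¹ := by
          rw [pow_succ']; group
      _ = x * t ^ j * y * x⁻¹ := by rw [ih]; group
      _ = t ^ j * (x * y * x⁻¹) := by rw [(ht.pow_right j).eq]; group
      _ = t ^ (j + 1) * y := by rw [h, pow_succ, mul_assoc]

/-- The image of a group under a homomorphism has an abelian normal subgroup of bounded index;
pulled back it is commutative modulo the kernel. -/
theorem exists_comm_mod {p m n c : ℕ} (hP : Bound.{u, v} p m n c) {F : Type v} [Field F]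
    [IsAlgClosed F] [CharP F p] {G : Type u} [Group G] [Finite G] {W : Type v} [AddCommGroup W]
    [Module F W] [FiniteDimensional F W] (σ : G →* Module.End F W) (hn : finrank F W ≤ n)
    (hm : (Nat.card G).factorization p ≤ m) :
    ∃ A : Subgroup G, A.Normal ∧ A.index ≤ c ∧
      ∀ a ∈ A, ∀ b ∈ A, σ (a * b * a⁻¹ * b⁻¹) = 1 := by
  let τ : G ⧸ σ.ker →* Module.End F W := QuotientGroup.lift σ.ker σ le_rfl
  have hτ : Function.Injective τ := by
    intro x y hxy
    obtain ⟨a, rfl⟩ := QuotientGroup.mk_surjective x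
    obtain ⟨b, rfl⟩ := QuotientGroup.mk_surjective y
    change σ a = σ b at hxy
    refine QuotientGroup.eq.mpr ?_
    rw [MonoidHom.mem_ker, map_mul, ← hxy, ← map_mul, inv_mul_cancel, map_one]
  have hd : Nat.card (G ⧸ σ.ker) ∣ Nat.card G := by
    rw [← Subgroup.index_eq_card]; exact Subgroup.index_dvd_card _
  obtain ⟨A, hA1, hA2, hA3⟩ := hP F (G ⧸ σ.ker) W τ hτ hn
    (le_trans ((Nat.factorization_le_iff_dvd Nat.card_pos.ne' Nat.card_pos.ne').mpr hd p) hm)
  refine ⟨A.comap (QuotientGroup.mk' σ.ker), hA1.comap _, ?_, fun a ha b hb => ?_⟩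
  · rw [Subgroup.index_comap_of_surjective _ (QuotientGroup.mk'_surjective _)]
    exact hA3
  · have h : (QuotientGroup.mk' σ.ker a) * QuotientGroup.mk' σ.ker b =
        QuotientGroup.mk' σ.ker b * QuotientGroup.mk' σ.ker a := by
      have h := congrArg Subtype.val (hA2.is_comm.comm (⟨_, ha⟩ : A) ⟨_, hb⟩)
      exact h
    have hk : a * b * a⁻¹ * b⁻¹ ∈ σ.ker := by
      rw [← QuotientGroup.ker_mk' σ.ker, MonoidHom.mem_ker]
      simp only [map_mul, map_inv]
      rw [h]
      group
    exact MonoidHom.mem_ker.mp hk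

/-- A reducible group inherits a bound from its constituents. -/
theorem exists_of_invariant {p m n c : ℕ} [hp : Fact p.Prime] (hP : Bound.{u, v} p m n c)
    {F : Type v} [Field F] [IsAlgClosed F] [CharP F p] {G : Type u} [Group G] [Finite G]
    {V : Type v} [AddCommGroup V] [Module F V] [FiniteDimensional F V]
    (ρ : G →* Module.End F V) (hρ : Function.Injective ρ) (hn : finrank F V ≤ n + 1)
    (hm : (Nat.card G).factorization p ≤ m) (W : Submodule F V) (hW0 : W ≠ ⊥) (hW1 : W ≠ ⊤)
    (hW : ∀ g, ∀ v ∈ W, ρ g v ∈ W) :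
    ∃ A : Subgroup G, A.Normal ∧ IsMulCommutative A ∧ A.index ≤ redBound p m c := by
  let σ : G →* Module.End F W :=
    { toFun := fun g => (ρ g).restrict (hW g)
      map_one' := LinearMap.ext fun w => Subtype.ext (by
        rw [LinearMap.coe_restrict_apply, map_one]; rfl)
      map_mul' := fun g h => LinearMap.ext fun w => Subtype.ext (by
        rw [LinearMap.coe_restrict_apply, map_mul]; rfl) }
  let τ : G →* Module.End F (V ⧸ W) :=
    { toFun := fun g => W.mapQ W (ρ g) (hW g)
      map_one' := by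
        refine Submodule.linearMap_qext _ (LinearMap.ext fun v => ?_)
        simp
      map_mul' := fun g h => by
        refine Submodule.linearMap_qext _ (LinearMap.ext fun v => ?_)
        simp }
  have h1 : finrank F W ≤ n := by
    have := Submodule.finrank_lt hW1
    omega
  have h2 : finrank F (V ⧸ W) ≤ n := by
    have := W.finrank_quotient_add_finrank
    have : 0 < finrank F W := by
      haveI := Submodule.nontrivial_iff_ne_bot.mpr hW0
      exact Module.finrank_pos
    omega
  obtain ⟨A1, hA1, hI1, hc1⟩ := exists_comm_mod hP σ h1 hm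
  obtain ⟨A2, hA2, hI2, hc2⟩ := exists_comm_mod hP τ h2 hm
  set K := σ.ker ⊓ τ.ker
  have hKp : IsPGroup p K := by
    rintro ⟨k, hk1, hk2⟩
    refine ⟨1, Subtype.ext (hρ ?_)⟩
    rw [Subgroup.coe_pow, pow_one, map_pow, Subgroup.coe_one, map_one]
    set N := ρ k - 1 with hN
    have hN2 : N * N = 0 := by
      refine LinearMap.ext fun v => ?_
      have hvW : N v ∈ W := by
        rw [hN, LinearMap.sub_apply, Module.End.one_apply, ← Submodule.Quotient.eq]
        exact congrArg (fun f : Module.End F (V ⧸ W) => f (Submodule.Quotient.mk v))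
          (MonoidHom.mem_ker.mp hk2)
      have hfix : ρ k (N v) = N v :=
        congrArg (fun f : Module.End F W => ((f ⟨N v, hvW⟩ : W) : V)) (MonoidHom.mem_ker.mp hk1)
      show ρ k (N v) - N v = 0
      rw [hfix, sub_self]
    have hpow : ∀ j : ℕ, (ρ k) ^ j = 1 + (j : F) • N := by
      intro j
      induction j with
      | zero => simp
      | succ j ih =>
        rw [pow_succ, ih, show ρ k = 1 + N by rw [hN]; abel, add_mul, one_mul, smul_mul_assoc,
          mul_add, mul_one, hN2, add_zero, Nat.cast_succ, add_smul, one_smul]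
        abel
    rw [hpow, CharP.cast_eq_zero, zero_smul, add_zero]
  have hKcard : Nat.card K ∣ p ^ m := pgroup_card_le Nat.card_pos.ne' hm dvd_rfl K hKp
  have hKM : Nat.card K ≤ p ^ m := Nat.le_of_dvd (pow_pos hp.out.pos m) hKcard
  set A := A1 ⊓ A2
  set C := A ⊓ Subgroup.centralizer (K : Set G)
  haveI hKn : K.Normal := inferInstance
  haveI hCn : C.Normal := inferInstance
  have hcomm : ∀ x ∈ C, ∀ y ∈ C, x * y * x⁻¹ * y⁻¹ ∈ K := fun x hx y hy =>
    ⟨MonoidHom.mem_ker.mpr (hc1 x hx.1.1 y hy.1.1), MonoidHom.mem_ker.mpr (hc2 x hx.1.2 y hy.1.2)⟩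
  have hexp : IsPGroup p (↥C ⧸ Subgroup.center ↥C) := by
    intro x
    obtain ⟨x, rfl⟩ := QuotientGroup.mk_surjective x
    refine ⟨m, ?_⟩
    rw [← QuotientGroup.mk_pow, QuotientGroup.eq_one_iff, Subgroup.mem_center_iff]
    intro y
    refine Subtype.ext ?_
    rw [Subgroup.coe_mul, Subgroup.coe_mul, Subgroup.coe_pow]
    set t := (x : G) * y * (x : G)⁻¹ * (y : G)⁻¹ with ht
    have htK : t ∈ K := hcomm x x.2 y y.2
    have h := eq_mul_of_pow (x := (x : G)) (y := (y : G)) (t := t) (by rw [ht]; group)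
      ((Subgroup.mem_centralizer_iff.mp x.2.2 t htK).symm) (p ^ m)
    have htM : t ^ (p ^ m) = 1 := orderOf_dvd_iff_pow_eq_one.mp
      ((Subgroup.orderOf_dvd_natCard K htK).trans hKcard)
    rw [htM, one_mul, mul_inv_eq_iff_eq_mul] at h
    exact h.symm
  have hZ : (Subgroup.center ↥C).index ≤ p ^ m := by
    obtain ⟨j, hj⟩ := IsPGroup.iff_card.mp hexp
    rw [Subgroup.index_eq_card, hj]
    refine Nat.pow_le_pow_right hp.out.pos (le_trans ?_ hm)
    refine (hp.out.pow_dvd_iff_le_factorization Nat.card_pos.ne').mp (hj ▸ ?_)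
    exact (Subgroup.card_quotient_dvd_card _).trans (Subgroup.card_subgroup_dvd_card C)
  refine ⟨(Subgroup.center ↥C).map C.subtype, inferInstance, ⟨⟨?_⟩⟩, ?_⟩
  · rintro ⟨_, a, ha, rfl⟩ ⟨_, b, hb, rfl⟩
    refine Subtype.ext ?_
    show (a : G) * b = b * a
    exact congrArg Subtype.val (Subgroup.mem_center_iff.mp hb a)
  · rw [Subgroup.index_map, MonoidHom.range_eq_map, C.ker_subtype, sup_bot_eq]
    rw [← MonoidHom.range_eq_map, Subgroup.range_subtype]
    calc (Subgroup.center ↥C).index * C.index ≤ p ^ m * ((c * c) * (p ^ m)!) := by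
          refine Nat.mul_le_mul hZ (le_trans (Subgroup.index_inf_le) (Nat.mul_le_mul ?_ ?_))
          · exact le_trans (Subgroup.index_inf_le) (Nat.mul_le_mul hI1 hI2)
          · exact (index_centralizer_le K).trans (Nat.factorial_le hKM)
      _ = redBound p m c := by rw [redBound]; ring

/-- A subgroup stabilizing a subspace inherits a bound from the constituents. -/
theorem exists_of_invariant_subgroup {p m n c : ℕ} [hp : Fact p.Prime]
    (hP : Bound.{u, v} p m n c) {F : Type v} [Field F] [IsAlgClosed F] [CharP F p] {G : Type u}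
    [Group G] [Finite G] {V : Type v} [AddCommGroup V] [Module F V] [FiniteDimensional F V]
    (ρ : G →* Module.End F V) (hρ : Function.Injective ρ) (hn : finrank F V ≤ n + 1)
    (hm : (Nat.card G).factorization p ≤ m) (H : Subgroup G) (W : Submodule F V) (hW0 : W ≠ ⊥)
    (hW1 : W ≠ ⊤) (hW : ∀ g ∈ H, ∀ v ∈ W, ρ g v ∈ W) :
    ∃ A : Subgroup G, A ≤ H ∧ (∀ a ∈ A, ∀ b ∈ A, Commute a b) ∧
      A.relIndex H ≤ redBound p m c ∧ ∀ h ∈ H, ∀ e, (redBound p m c)! ∣ e → h ^ e ∈ A := by
  obtain ⟨A, hA, hAc, hAi⟩ := exists_of_invariant hP (ρ.comp H.subtype)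
    (hρ.comp Subtype.val_injective) hn
    (le_trans ((Nat.factorization_le_iff_dvd Nat.card_pos.ne' Nat.card_pos.ne').mpr
      (Subgroup.card_subgroup_dvd_card H) p) hm) W hW0 hW1 (fun g => hW g g.2)
  refine ⟨A.map H.subtype, Subgroup.map_subtype_le A, ?_, ?_, ?_⟩
  · rintro _ ⟨a, ha, rfl⟩ _ ⟨b, hb, rfl⟩
    have h := congrArg Subtype.val (hAc.is_comm.comm (⟨a, ha⟩ : A) ⟨b, hb⟩)
    exact congrArg Subtype.val h
  · rw [Subgroup.relIndex, Subgroup.subgroupOf, Subgroup.comap_map_eq_self_of_injective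
      H.subtype_injective]
    exact hAi
  · intro h hh e he
    obtain ⟨k, hk⟩ := (Nat.dvd_factorial
      (Nat.pos_of_ne_zero Subgroup.index_ne_zero_of_finite) hAi).trans he
    refine ⟨⟨h, hh⟩ ^ e, ?_, rfl⟩
    show (⟨h, hh⟩ : H) ^ e ∈ A
    rw [hk, pow_mul]
    exact pow_mem (Subgroup.pow_index_mem A ⟨h, hh⟩) k

end CfsgLib.BrauerFeit
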