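import Cfsg.Agent.Lib.BrauerFeit.Counting
import Cfsg.Agent.Lib.BrauerFeit.Reducible

/-!
Brauer–Feit: classes of stable elements in an irreducible linear group of bounded `p`-part and the
resulting bound on the group modulo scalars.
-/

set_option autoImplicit false
set_option linter.style.haveILetI false
set_option linter.unusedSectionVars false

universe u v

namespace CfsgLib.BrauerFeit

open Module
open scoped Nat

section Group

variable {G : Type*} [Group G]

/-- An element is stable if it is non-central and has the centralizer of its `e`-th power. -/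
def IsStable (e : ℕ) (y : G) : Prop :=
  y ∉ Subgroup.center G ∧
    Subgroup.centralizer ({y ^ e} : Set G) = Subgroup.centralizer ({y} : Set G)

/-- The stable elements commuting with a given one. -/
def cls (e : ℕ) (y : G) : Set G := {k | IsStable e k ∧ Commute k y}

/-- The non-central elements commuting with a member of a class. -/
def span (K : Set G) : Set G := {g | g ∉ Subgroup.center G ∧ ∃ k ∈ K, Commute g k}

theorem commute_conj_iff {h x y : G} :
    Commute (h * x * h⁻¹) (h * y * h⁻¹) ↔ Commute x y :=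
  ⟨fun H => (MulAut.conj h).injective (by simpa [map_mul] using H.eq), fun H => by
    simpa using H.map (MulAut.conj h).toMonoidHom⟩

theorem conj_mem_center_iff {h x : G} :
    h * x * h⁻¹ ∈ Subgroup.center G ↔ x ∈ Subgroup.center G := by
  constructor
  · intro H
    have := Subgroup.Normal.conj_mem inferInstance _ H h⁻¹
    simpa [mul_assoc] using this
  · exact fun H => Subgroup.Normal.conj_mem inferInstance _ H h

theorem IsStable.conj {e : ℕ} {y : G} (hy : IsStable e y) (h : G) :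
    IsStable e (h * y * h⁻¹) := by
  refine ⟨fun H => hy.1 (conj_mem_center_iff.mp H), ?_⟩
  ext x
  rw [conj_pow, Subgroup.mem_centralizer_singleton_iff, Subgroup.mem_centralizer_singleton_iff]
  obtain ⟨z, rfl⟩ : ∃ z, x = h * z * h⁻¹ := ⟨h⁻¹ * x * h, by group⟩
  show Commute _ _ ↔ Commute _ _
  rw [commute_conj_iff, commute_conj_iff]
  show z * y ^ e = y ^ e * z ↔ z * y = y * z
  rw [← Subgroup.mem_centralizer_singleton_iff, ← Subgroup.mem_centralizer_singleton_iff, hy.2]

theorem conj_cls (e : ℕ) (y h : G) :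
    (fun x => h * x * h⁻¹) '' cls e y = cls e (h * y * h⁻¹) := by
  ext x
  constructor
  · rintro ⟨k, ⟨hk, hky⟩, rfl⟩
    exact ⟨hk.conj h, commute_conj_iff.mpr hky⟩
  · rintro ⟨hx, hxy⟩
    refine ⟨h⁻¹ * x * h, ⟨?_, ?_⟩, by group⟩
    · simpa using hx.conj h⁻¹
    · apply (commute_conj_iff (h := h)).mp
      rw [show h * (h⁻¹ * x * h) * h⁻¹ = x by group]
      exact hxy

theorem conj_span (K : Set G) (h : G) :
    (fun x => h * x * h⁻¹) '' span K = span ((fun x => h * x * h⁻¹) '' K) := by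
  ext x
  constructor
  · rintro ⟨g, ⟨hg, k, hk, hgk⟩, rfl⟩
    exact ⟨fun H => hg (conj_mem_center_iff.mp H), _, ⟨k, hk, rfl⟩, commute_conj_iff.mpr hgk⟩
  · rintro ⟨hx, _, ⟨k, hk, rfl⟩, hxk⟩
    refine ⟨h⁻¹ * x * h, ⟨fun H => hx ?_, k, hk, ?_⟩, by group⟩
    · have := conj_mem_center_iff (h := h).mpr H
      rwa [show h * (h⁻¹ * x * h) * h⁻¹ = x by group] at this
    · apply (commute_conj_iff (h := h)).mp
      rwa [show h * (h⁻¹ * x * h) * h⁻¹ = x by group]

theorem span_mul_center {K : Set G} {g z : G} (hz : z ∈ Subgroup.center G) (hg : g ∈ span K) :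
    g * z ∈ span K := by
  obtain ⟨hg, k, hk, hgk⟩ := hg
  refine ⟨fun H => hg ((Subgroup.mul_mem_cancel_right _ hz).mp H), k, hk, ?_⟩
  exact hgk.mul_left ((Subgroup.mem_center_iff.mp hz k).symm : Commute z k)

end Group

/-- The bound on an irreducible group modulo scalars. -/
def irrBound (p m n c : ℕ) : ℕ :=
  let c1 := redBound p m c
  let e := c1 ! * p ^ m
  let B := c1 * (p ^ m * (e ^ ((n + 1) ^ 2 + 1)) ^ (n + 1)) * (n + 1)
  max (gapBound (2 * (n + 1)!) (B ! * ((n + 1)!)!)) (c1 * (n + 1)!)!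

theorem exists_of_irreducible {p m n c : ℕ} [hp : Fact p.Prime] (hP : Bound.{u, v} p m n c)
    {F : Type v} [Field F] [IsAlgClosed F] [CharP F p] {G : Type u} [Group G] [Finite G]
    {V : Type v} [AddCommGroup V] [Module F V] [FiniteDimensional F V]
    (ρ : G →* Module.End F V) (hρ : Function.Injective ρ) (hn : finrank F V = n + 1)
    (hm : (Nat.card G).factorization p ≤ m)
    (hirr : ∀ W : Submodule F V, (∀ g, ∀ v ∈ W, ρ g v ∈ W) → W = ⊥ ∨ W = ⊤) :
    ∃ A : Subgroup G, A.Normal ∧ IsMulCommutative A ∧ A.index ≤ irrBound p m n c := by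
  classical
  haveI : Nontrivial V := Module.nontrivial_of_finrank_eq_succ hn
  set c1 := redBound p m c with hc1
  set M := p ^ m with hM
  set e := c1 ! * M with he
  set N := n + 1
  set E := e ^ (N ^ 2 + 1) with hE
  set Z := Subgroup.center G with hZdef
  have hM0 : 0 < M := pow_pos hp.out.pos m
  have he0 : 0 < e := Nat.mul_pos (Nat.factorial_pos _) hM0
  have hscal : ∀ z ∈ Z, ∃ a : F, ρ z = a • 1 := fun z hz => scalar_of_central ρ hirr hz
  -- centralizers of non-central elements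
  have hloc : ∀ g : G, g ∉ Z → ∃ A : Subgroup G, A ≤ Subgroup.centralizer ({g} : Set G) ∧
      (∀ a ∈ A, ∀ b ∈ A, Commute a b) ∧ A.relIndex (Subgroup.centralizer ({g} : Set G)) ≤ c1 ∧
      ∀ h ∈ Subgroup.centralizer ({g} : Set G), h ^ e ∈ A := by
    intro g hg
    obtain ⟨W, hW0, hW1, hW⟩ := exists_invariant_of_noncentral ρ hρ hg
    obtain ⟨A, h1, h2, h3, h4⟩ :=
      exists_of_invariant_subgroup hP ρ hρ hn.le hm _ W hW0 hW1 hW
    exact ⟨A, h1, h2, h3, fun h hh => h4 h hh e (dvd_mul_right _ _)⟩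
  -- stable elements commuting with a common non-central element commute
  have hcomm : ∀ a b x : G, IsStable e a → IsStable e b → x ∉ Z → Commute a x → Commute b x →
      Commute a b := by
    intro a b x ha hb hx hax hbx
    obtain ⟨A, -, hA, -, hpow⟩ := hloc x hx
    have h1 : Commute (a ^ e) (b ^ e) := hA _ (hpow a (Subgroup.mem_centralizer_singleton_iff.mpr hax))
      _ (hpow b (Subgroup.mem_centralizer_singleton_iff.mpr hbx))
    have h2 : b ^ e ∈ Subgroup.centralizer ({a} : Set G) := by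
      rw [← ha.2]
      exact Subgroup.mem_centralizer_singleton_iff.mpr h1.symm
    have h3 : a ∈ Subgroup.centralizer ({b} : Set G) := by
      rw [← hb.2]
      exact Subgroup.mem_centralizer_singleton_iff.mpr
        (Subgroup.mem_centralizer_singleton_iff.mp h2).symm
    exact Subgroup.mem_centralizer_singleton_iff.mp h3
  have hclsS : ∀ {y k : G}, IsStable e y → k ∈ cls e y → cls e k = cls e y := by
    intro y k hy hk
    ext x
    exact ⟨fun hx => ⟨hx.1, hcomm x y k hx.1 hy hk.1.1 hx.2 hk.2.symm⟩,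
      fun hx => ⟨hx.1, hcomm x k y hx.1 hk.1 hy.1 hx.2 hk.2⟩⟩
  have hclsC : ∀ {y : G}, IsStable e y → ∀ a ∈ cls e y, ∀ b ∈ cls e y, Commute a b :=
    fun hy a ha b hb => hcomm a b _ ha.1 hb.1 hy.1 ha.2 hb.2
  have hspan : ∀ {y y' g : G}, IsStable e y → IsStable e y' → g ∈ span (cls e y) →
      g ∈ span (cls e y') → cls e y = cls e y' := by
    rintro y y' g hy hy' ⟨hg, k, hk, hgk⟩ ⟨-, k', hk', hgk'⟩
    have h := hcomm k k' g hk.1 hk'.1 hg hgk.symm hgk'.symm
    rw [← hclsS hy hk, ← hclsS hy' hk']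
    exact hclsS hk'.1 ⟨hk.1, h⟩
  have hyspan : ∀ {y : G}, IsStable e y → y ∈ span (cls e y) := fun {y} hy =>
    ⟨hy.1, y, ⟨hy, Commute.refl y⟩, Commute.refl y⟩
  -- the stabilizer of a class
  let N0 : G → Subgroup G := fun y =>
    { carrier := {h | ∀ k, h * k * h⁻¹ ∈ cls e y ↔ k ∈ cls e y}
      one_mem' := fun k => by simp
      mul_mem' := fun {a b} ha hb k => by
        rw [show a * b * k * (a * b)⁻¹ = a * (b * k * b⁻¹) * a⁻¹ by group]
        exact (ha _).trans (hb k)
      inv_mem' := fun {a} ha k => by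
        have := ha (a⁻¹ * k * a⁻¹⁻¹)
        rw [show a * (a⁻¹ * k * a⁻¹⁻¹) * a⁻¹ = k by group] at this
        exact this.symm }
  have hN0 : ∀ y h, h ∈ N0 y ↔ (fun x => h * x * h⁻¹) '' cls e y = cls e y := by
    intro y h
    constructor
    · intro hh
      ext x
      constructor
      · rintro ⟨k, hk, rfl⟩
        exact (hh k).mpr hk
      · intro hx
        refine ⟨h⁻¹ * x * h, (hh _).mp ?_, by group⟩
        rwa [show h * (h⁻¹ * x * h) * h⁻¹ = x by group]
    · intro hh k
      constructor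
      · intro hk
        rw [← hh] at hk
        obtain ⟨k', hk', he'⟩ := hk
        exact mul_left_cancel (mul_right_cancel he') ▸ hk'
      · intro hk
        rw [← hh]
        exact ⟨k, hk, rfl⟩
  let D : G → Subgroup G := fun y => Subgroup.centralizer (cls e y)
  have hDN : ∀ y, D y ≤ N0 y := by
    intro y d hd
    rw [hN0]
    ext x
    constructor
    · rintro ⟨k, hk, rfl⟩
      show d * k * d⁻¹ ∈ _
      rwa [← Subgroup.mem_centralizer_iff.mp hd k hk, mul_inv_cancel_right]
    · intro hx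
      refine ⟨x, hx, ?_⟩
      show d * x * d⁻¹ = x
      rw [← Subgroup.mem_centralizer_iff.mp hd x hx, mul_inv_cancel_right]
  have hZD : ∀ y, Z ≤ D y := fun y => Subgroup.center_le_centralizer _
  have hDle : ∀ {y : G}, IsStable e y → D y ≤ Subgroup.centralizer ({y} : Set G) := fun {y} hy =>
    Subgroup.centralizer_le (by simpa using (show y ∈ cls e y from ⟨hy, Commute.refl y⟩))
  have hindex : ∀ {y : G}, IsStable e y → (D y).relIndex (N0 y) ≤ N ! := by
    intro y hy
    set T := Subgroup.closure (cls e y) with hT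
    have hTc : ∀ a ∈ T, ∀ b ∈ T, Commute a b := by
      intro a ha b hb
      haveI := Subgroup.isMulCommutative_closure (k := cls e y) fun x hx z hz => hclsC hy x hx z hz
      exact congrArg Subtype.val (mul_comm' (⟨a, ha⟩ : T) ⟨b, hb⟩)
    let pw : T →* G := MonoidHom.mk' (fun a => (a : G) ^ M) fun a b => (hTc a a.2 b b.2).mul_pow M
    have hBT : pw.range ≤ T := by
      rintro _ ⟨a, rfl⟩
      exact pow_mem a.2 M
    have hcop : (Nat.card pw.range : F) ≠ 0 := by
      rw [Ne, CharP.cast_eq_zero_iff F p]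
      intro hd
      obtain ⟨b, hb⟩ := exists_prime_orderOf_dvd_card' p hd
      obtain ⟨a, ha⟩ := b.2
      change (a : G) ^ M = b at ha
      have hb1 : (a : G) ^ M ≠ 1 := by
        rw [ha]
        intro h
        rw [(Subtype.ext h : b = 1), orderOf_one] at hb
        exact hp.out.one_lt.ne hb
      have hbp : (a : G) ^ (p ^ (m + 1)) = 1 := by
        rw [pow_succ, pow_mul, ← hM, ha, ← hb, ← Subgroup.coe_pow, pow_orderOf_eq_one]
        rfl
      obtain ⟨i, hi, hia⟩ := (Nat.dvd_prime_pow hp.out).mp (orderOf_dvd_of_pow_eq_one hbp)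
      rcases Nat.lt_or_ge i (m + 1) with h | h
      · exact hb1 (orderOf_dvd_iff_pow_eq_one.mp (hia ▸ pow_dvd_pow p (by omega)))
      · have := (hp.out.pow_dvd_iff_le_factorization Nat.card_pos.ne').mp
          (hia ▸ orderOf_dvd_natCard (a : G))
        omega
    have hnorm : ∀ h ∈ N0 y, ∀ t ∈ T, h * t * h⁻¹ ∈ T := by
      intro h hh t ht
      have : T ≤ T.comap (MulAut.conj h).toMonoidHom :=
        (Subgroup.closure_le _).mpr fun k hk => Subgroup.subset_closure ((hh k).mpr hk)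
      exact this ht
    have h1 := relIndex_centralizer_le ρ hρ pw.range (N0 y)
      (fun a ha b hb => hTc a (hBT ha) b (hBT hb)) hcop (fun h hh b hb => by
        obtain ⟨a, rfl⟩ := hb
        exact ⟨⟨h * a * h⁻¹, hnorm h hh a a.2⟩, conj_pow⟩)
    rw [hn] at h1
    refine le_trans (Nat.le_of_dvd (Nat.pos_of_ne_zero Subgroup.index_ne_zero_of_finite) ?_) h1
    -- an element centralizing all `k ^ M` centralizes the class
    refine Subgroup.relIndex_dvd_of_le_left _ (fun h hh => ?_)
    refine Subgroup.mem_centralizer_iff.mpr fun k hk => ?_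
    have h2 : h ∈ Subgroup.centralizer ({k ^ e} : Set G) := by
      have h3 : Commute h (k ^ M) :=
        (Subgroup.mem_centralizer_iff.mp hh (k ^ M) ⟨⟨k, Subgroup.subset_closure hk⟩, rfl⟩).symm
      rw [he, mul_comm, pow_mul]
      exact Subgroup.mem_centralizer_singleton_iff.mpr (h3.pow_right _)
    rw [hk.1.2] at h2
    exact (Subgroup.mem_centralizer_singleton_iff.mp h2).symm
  by_cases htop : ∃ y, IsStable e y ∧ N0 y = ⊤
  · -- one class is normalized by everything
    obtain ⟨y, hy, hy1⟩ := htop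
    obtain ⟨A, -, hA, hAi, -⟩ := hloc y hy.1
    have hDi : (D y).index ≤ N ! := by
      have := hindex hy
      rwa [hy1, Subgroup.relIndex_top_right] at this
    have hAD : (A ⊓ D y).index ≤ c1 * N ! := by
      rw [← Subgroup.relIndex_mul_index (inf_le_right : A ⊓ D y ≤ D y)]
      refine Nat.mul_le_mul ?_ hDi
      rw [Subgroup.inf_relIndex_right]
      exact le_trans (Subgroup.relIndex_le_of_le_right (hDle hy) (Subgroup.index_ne_zero_of_finite : ((A.subgroupOf (Subgroup.centralizer ({y} : Set G))).index ≠ 0)))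
        hAi
    obtain ⟨A', hA'1, hA'2, hA'3⟩ := exists_normal_of_abelian (A ⊓ D y)
      ⟨⟨fun a b => Subtype.ext (hA a a.2.1 b b.2.1)⟩⟩ hAD
    exact ⟨A', hA'1, hA'2, hA'3.trans (le_max_right _ _)⟩
  push Not at htop
  -- the class equation modulo scalars
  let q := QuotientGroup.mk' Z
  let 𝒰 : Set (Set (G ⧸ Z)) := {U | ∃ y, IsStable e y ∧ U = q '' span (cls e y)}
  have hsat : ∀ {K : Set G} {g : G}, q g ∈ q '' span K → g ∈ span K := by
    rintro K g ⟨g', hg', heq⟩
    have hz : g'⁻¹ * g ∈ Z := QuotientGroup.eq.mp heq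
    have := span_mul_center hz hg'
    rwa [mul_inv_cancel_left] at this
  have hconjim : ∀ (h : G) (K : Set G),
      (fun x => q h * x * (q h)⁻¹) '' (q '' span K) =
        q '' span ((fun x => h * x * h⁻¹) '' K) := by
    intro h K
    rw [← conj_span, Set.image_image, Set.image_image]
    exact Set.image_congr fun x _ => by simp [q]
  have hconj : ∀ U ∈ 𝒰, ∀ x : G ⧸ Z, (fun t => x * t * x⁻¹) '' U ∈ 𝒰 := by
    rintro _ ⟨y, hy, rfl⟩ x
    obtain ⟨h, rfl⟩ := QuotientGroup.mk'_surjective Z x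
    exact ⟨h * y * h⁻¹, hy.conj h, by rw [hconjim, conj_cls]⟩
  have hdisj : ∀ U ∈ 𝒰, ∀ U' ∈ 𝒰, ∀ x ∈ U, x ∈ U' → U = U' := by
    rintro _ ⟨y, hy, rfl⟩ _ ⟨y', hy', rfl⟩ x ⟨g, hg, rfl⟩ hx'
    rw [hspan hy hy' hg (hsat hx')]
  have hone : ∀ U ∈ 𝒰, (1 : G ⧸ Z) ∉ U := by
    rintro _ ⟨y, hy, rfl⟩ ⟨g, hg, hg1⟩
    exact hg.1 ((QuotientGroup.eq_one_iff g).mp hg1)
  set B := c1 * (M * E ^ N) * N with hB
  have hsmall : ∀ x : G ⧸ Z, x ≠ 1 → (∀ U ∈ 𝒰, x ∉ U) →
      Nat.card (Subgroup.centralizer ({x} : Set (G ⧸ Z))) ≤ B := by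
    intro x hx hxU
    obtain ⟨g, rfl⟩ := QuotientGroup.mk'_surjective Z x
    have hgZ : g ∉ Z := fun h => hx ((QuotientGroup.eq_one_iff g).mpr h)
    refine le_trans (card_centralizer_mk_le ρ hρ hscal g) ?_
    rw [hn, hB]
    refine Nat.mul_le_mul_right _ ?_
    obtain ⟨A, hAC, hA, hAi, -⟩ := hloc g hgZ
    have hexp : ∀ a ∈ A, a ^ E ∈ Z := by
      intro a ha
      obtain ⟨j, hj, hC⟩ := exists_stable_power ρ hρ a e
      have hbc : Commute (a ^ e ^ j) g :=
        Commute.pow_left (Subgroup.mem_centralizer_singleton_iff.mp (hAC ha)) _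
      have hbZ : a ^ e ^ j ∈ Z := by
        by_contra hb
        have hst : IsStable e (a ^ e ^ j) := ⟨hb, by rw [← pow_mul, ← pow_succ, ← hC]⟩
        exact hxU _ ⟨_, hst, rfl⟩ ⟨g, ⟨hgZ, _, ⟨hst, Commute.refl _⟩, hbc.symm⟩, rfl⟩
      rw [hn] at hj
      rw [hE, show N ^ 2 + 1 = j + (N ^ 2 + 1 - j) by omega, pow_add, pow_mul]
      exact pow_mem hbZ _
    have hrel := relIndex_center_le ρ hm hρ hscal A hA (pow_pos he0 _) hexp
    rw [hn] at hrel
    set C := Subgroup.centralizer ({g} : Set G)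
    calc Z.relIndex C ≤ (Z ⊓ A).relIndex C :=
          Nat.le_of_dvd (Nat.pos_of_ne_zero Subgroup.index_ne_zero_of_finite)
            (Subgroup.relIndex_dvd_of_le_left _ inf_le_left)
      _ = (Z ⊓ A).relIndex A * A.relIndex C :=
          (Subgroup.relIndex_mul_relIndex _ _ _ inf_le_right hAC).symm
      _ ≤ (M * E ^ N) * c1 := by
          rw [Subgroup.inf_relIndex_right]
          exact Nat.mul_le_mul hrel hAi
      _ = c1 * (M * E ^ N) := mul_comm _ _
  have hbig : ∀ U ∈ 𝒰, ∃ (S : Subgroup (G ⧸ Z)) (a d w : ℕ),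
      (∀ x, x ∈ S ↔ (fun t => x * t * x⁻¹) '' U = U) ∧ S ≠ ⊤ ∧ 2 ≤ d ∧ 1 ≤ a ∧
      w ≤ N ! ∧ Nat.card U + 1 = a * d ∧ w * d = Nat.card S := by
    rintro _ ⟨y, hy, rfl⟩
    have hDq : (D y).map q ≤ (N0 y).map q := Subgroup.map_mono (hDN y)
    set T : Set (G ⧸ Z) := insert 1 (q '' span (cls e y))
    have hTmul : ∀ t ∈ T, ∀ x ∈ (D y).map q, t * x ∈ T := by
      rintro t ht _ ⟨d, hd, rfl⟩
      by_cases h1 : t * q d = 1
      · exact h1 ▸ Set.mem_insert _ _
      refine Set.mem_insert_of_mem _ ?_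
      obtain ⟨g, rfl, hgk⟩ : ∃ g, q g = t ∧ ∃ k ∈ cls e y, Commute g k := by
        rcases ht with rfl | ⟨g, ⟨-, k, hk, hgk⟩, rfl⟩
        · exact ⟨1, map_one q, y, ⟨hy, Commute.refl y⟩, Commute.one_left y⟩
        · exact ⟨g, rfl, k, hk, hgk⟩
      rw [← map_mul] at h1 ⊢
      obtain ⟨k, hk, hgk⟩ := hgk
      refine ⟨g * d, ⟨fun h => h1 ((QuotientGroup.eq_one_iff _).mpr h), k, hk, ?_⟩, rfl⟩
      exact hgk.mul_left (Subgroup.mem_centralizer_iff.mp hd k hk).symm
    have hTcard : Nat.card T =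
        Nat.card (((↑) : G ⧸ Z → (G ⧸ Z) ⧸ (D y).map q) '' T) * Nat.card ((D y).map q) := by
      have hpre : ((↑) : G ⧸ Z → (G ⧸ Z) ⧸ (D y).map q) ⁻¹'
          (((↑) : G ⧸ Z → (G ⧸ Z) ⧸ (D y).map q) '' T) = T := by
        refine Set.Subset.antisymm ?_ (Set.subset_preimage_image _ _)
        rintro x ⟨t, ht, htx⟩
        have := hTmul t ht _ (QuotientGroup.eq.mp htx)
        rwa [mul_inv_cancel_left] at this
      conv_lhs => rw [← hpre]
      rw [Nat.card_congr (QuotientGroup.preimageMkEquivSubgroupProdSet _ _), Nat.card_prod, mul_comm]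
    have hTone : Nat.card (q '' span (cls e y)) + 1 = Nat.card T := by
      rw [Nat.card_coe_set_eq, Nat.card_coe_set_eq, Set.ncard_insert_of_notMem
        (hone _ ⟨y, hy, rfl⟩) (Set.toFinite _)]
    refine ⟨(N0 y).map q, Nat.card (((↑) : G ⧸ Z → (G ⧸ Z) ⧸ (D y).map q) '' T),
      Nat.card ((D y).map q), ((D y).map q).relIndex ((N0 y).map q), ?_, ?_, ?_, ?_, ?_, ?_, ?_⟩
    · intro x
      constructor
      · rintro ⟨h, hh, rfl⟩
        rw [hconjim, (hN0 y h).mp hh]
      · intro hx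
        obtain ⟨h, rfl⟩ := QuotientGroup.mk'_surjective Z x
        rw [hconjim, conj_cls] at hx
        refine ⟨h, (hN0 y h).mpr ?_, rfl⟩
        rw [conj_cls]
        refine hspan (hy.conj h) hy (hyspan (hy.conj h)) (hsat ?_)
        rw [← hx]
        exact ⟨_, hyspan (hy.conj h), rfl⟩
    · intro htop'
      refine htop y hy (eq_top_iff.mpr ?_)
      rw [← Subgroup.comap_top q, ← htop', Subgroup.comap_map_eq, QuotientGroup.ker_mk']
      exact sup_le le_rfl ((hZD y).trans (hDN y))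
    · have : Nontrivial ((D y).map q) := by
        refine ⟨⟨⟨q y, y, Subgroup.mem_centralizer_iff.mpr fun k hk => hk.2, rfl⟩, 1, fun h => ?_⟩⟩
        exact hy.1 ((QuotientGroup.eq_one_iff y).mp (congrArg Subtype.val h))
      exact Finite.one_lt_card_iff_nontrivial.mpr this
    · haveI : Nonempty (((↑) : G ⧸ Z → (G ⧸ Z) ⧸ (D y).map q) '' T) :=
        ⟨⟨_, 1, Set.mem_insert _ _, rfl⟩⟩
      exact Nat.card_pos
    · rw [Subgroup.relIndex_map_map, QuotientGroup.ker_mk', sup_eq_left.mpr (hZD y),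
        sup_eq_left.mpr ((hZD y).trans (hDN y))]
      exact hindex hy
    · rw [hTone, hTcard]
    · rw [← Subgroup.relIndex_bot_left, ← Subgroup.relIndex_bot_left, mul_comm,
        Subgroup.relIndex_mul_relIndex ⊥ _ _ bot_le hDq]
  refine ⟨Z, inferInstance, inferInstance, ?_⟩
  rw [Subgroup.index_eq_card]
  exact (card_le_of_partition (N !) B 𝒰 hconj hdisj hone hsmall hbig).trans (le_max_left _ _)

end CfsgLib.BrauerFeit
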